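import Mathlib

/-!
# Minimal normal subgroups of a minimal normal subgroup, and a Sylow subgroup
-/

set_option autoImplicit false
set_option linter.style.haveILetI false

namespace H28.AbelTwo

open Subgroup
open scoped commutatorElement

variable {G : Type*} [Group G] [Finite G] {p : ℕ} [hp : Fact p.Prime]

/-- `S` is a minimal nontrivial subgroup of `N` normalised by `N`. -/
structure MinIn (N S : Subgroup G) : Prop where
  le : S ≤ N
  ne_bot : S ≠ ⊥
  norm : N ≤ normalizer (S : Set G)
  min : ∀ L : Subgroup G, L ≤ S → N ≤ normalizer (L : Set G) → L = ⊥ ∨ L = S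

/-- A normal subgroup `N` with no normal subgroup of `G` strictly inside and non-commutative. -/
structure BigMin (N : Subgroup G) : Prop where
  normal : N.Normal
  ne_bot : N ≠ ⊥
  min : ∀ L : Subgroup G, L.Normal → L ≤ N → L = ⊥ ∨ L = N
  noncomm : ¬ ∀ a ∈ N, ∀ b ∈ N, a * b = b * a

theorem exists_minIn {N : Subgroup G} (hN : N ≠ ⊥) : ∃ S, MinIn N S := by
  obtain ⟨S, ⟨hS1, hS2, hS3⟩, hmin⟩ := (Set.toFinite
    {S : Subgroup G | S ≤ N ∧ S ≠ ⊥ ∧ N ≤ normalizer (S : Set G)}).exists_minimal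
    ⟨N, le_rfl, hN, le_normalizer⟩
  refine ⟨S, hS1, hS2, hS3, fun L hL hLn => ?_⟩
  by_cases hb : L = ⊥
  · exact Or.inl hb
  · exact Or.inr (le_antisymm hL (hmin ⟨hL.trans hS1, hb, hLn⟩ hL))

omit [Finite G] in
theorem norm_inf {N A B : Subgroup G} (hA : N ≤ normalizer (A : Set G))
    (hB : N ≤ normalizer (B : Set G)) : N ≤ normalizer ((A ⊓ B : Subgroup G) : Set G) := by
  intro g hg
  rw [mem_normalizer_iff]
  intro x
  rw [mem_inf, mem_inf, (mem_normalizer_iff.1 (hA hg)) x, (mem_normalizer_iff.1 (hB hg)) x]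

omit [Finite G] in
theorem norm_centralizer {N S : Subgroup G} (hS : N ≤ normalizer (S : Set G)) :
    N ≤ normalizer ((centralizer (S : Set G) : Subgroup G) : Set G) := by
  have key : ∀ g ∈ normalizer (S : Set G), ∀ x ∈ centralizer (S : Set G),
      g * x * g⁻¹ ∈ centralizer (S : Set G) := by
    intro g hg x hx
    rw [mem_centralizer_iff] at hx ⊢
    intro s hs
    have hs' : g⁻¹ * s * g ∈ S := (mem_normalizer_iff''.1 hg s).1 hs
    have := hx _ hs'
    calc s * (g * x * g⁻¹) = g * ((g⁻¹ * s * g) * x) * g⁻¹ := by group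
      _ = g * (x * (g⁻¹ * s * g)) * g⁻¹ := by rw [this]
      _ = g * x * g⁻¹ * s := by group
  intro g hg
  rw [mem_normalizer_iff]
  intro x
  refine ⟨key g (hS hg) x, fun h => ?_⟩
  have := key g⁻¹ (inv_mem (hS hg)) _ h
  rwa [inv_inv, show g⁻¹ * (g * x * g⁻¹) * g = x from by group] at this

variable {N : Subgroup G}

omit [Finite G] in
theorem BigMin.inf_centralizer (hN : BigMin N) : N ⊓ centralizer (N : Set G) = ⊥ := by
  haveI := hN.normal
  refine (hN.min _ inferInstance inf_le_left).resolve_right fun h => hN.noncomm fun a ha b hb => ?_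
  have : b ∈ centralizer (N : Set G) := (h.ge hb).2
  exact mem_centralizer_iff.1 this a ha

omit [Finite G] in
theorem MinIn.map_conj {S : Subgroup G} (hN : N.Normal) (hS : MinIn N S) (g : G) :
    MinIn N (S.map (MulAut.conj g).toMonoidHom) := by
  haveI := hN
  have hmem : ∀ (h : G) (H : Subgroup G) (x : G), x ∈ H.map (MulAut.conj h).toMonoidHom ↔
      h⁻¹ * x * h ∈ H := by
    intro h H x
    simp only [mem_map, MulEquiv.coe_toMonoidHom, MulAut.conj_apply]
    constructor
    · rintro ⟨a, ha, rfl⟩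
      simpa [mul_assoc] using ha
    · intro hx
      exact ⟨_, hx, by group⟩
  have hnorm : ∀ (h : G) (H : Subgroup G), N ≤ normalizer (H : Set G) →
      N ≤ normalizer ((H.map (MulAut.conj h).toMonoidHom : Subgroup G) : Set G) := by
    intro h H hH n hn
    rw [mem_normalizer_iff]
    intro x
    rw [hmem, hmem]
    have hn' : h⁻¹ * n * h ∈ N := by simpa using hN.conj_mem n hn h⁻¹
    rw [mem_normalizer_iff.1 (hH hn') (h⁻¹ * x * h)]
    have : h⁻¹ * n * h * (h⁻¹ * x * h) * (h⁻¹ * n * h)⁻¹ = h⁻¹ * (n * x * n⁻¹) * h := by group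
    rw [this]
  refine ⟨?_, ?_, hnorm g S hS.norm, fun L hL hLn => ?_⟩
  · intro x hx
    rw [hmem] at hx
    simpa [mul_assoc] using hN.conj_mem _ (hS.le hx) g
  · rw [Ne, map_eq_bot_iff_of_injective _ (MulAut.conj g).injective]
    exact hS.ne_bot
  · have hback : (L.map (MulAut.conj g⁻¹).toMonoidHom).map (MulAut.conj g).toMonoidHom = L := by
      ext x
      rw [hmem, hmem]
      simp [mul_assoc]
    have hle : L.map (MulAut.conj g⁻¹).toMonoidHom ≤ S := by
      intro x hx
      rw [hmem, inv_inv] at hx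
      have := hL hx
      rw [hmem] at this
      simpa [mul_assoc] using this
    rcases hS.min _ hle (hnorm _ L hLn) with h | h
    · left
      rw [← hback, h, Subgroup.map_bot]
    · right
      rw [← hback, h]

omit [Finite G] in
theorem MinIn.commute {S S' : Subgroup G} (hS : MinIn N S) (hS' : MinIn N S') (hne : S ≠ S') :
    ∀ a ∈ S, ∀ b ∈ S', a * b = b * a := by
  have hinf : S ⊓ S' = ⊥ := by
    rcases hS.min _ inf_le_left (norm_inf hS.norm hS'.norm) with h | h
    · exact h
    · rcases hS'.min _ inf_le_right (norm_inf hS.norm hS'.norm) with h' | h'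
      · exact h'
      · exact absurd (h.symm.trans h') hne
  intro a ha b hb
  rw [← commutatorElement_eq_one_iff_mul_comm, ← mem_bot, ← hinf, mem_inf, commutatorElement_def]
  constructor
  · have : b * a⁻¹ * b⁻¹ ∈ S :=
      (mem_normalizer_iff.1 (hS.norm (hS'.le hb)) a⁻¹).1 (S.inv_mem ha)
    have e : a * b * a⁻¹ * b⁻¹ = a * (b * a⁻¹ * b⁻¹) := by group
    rw [e]; exact S.mul_mem ha this
  · have : a * b * a⁻¹ ∈ S' := (mem_normalizer_iff.1 (hS'.norm (hS.le ha)) b).1 hb
    exact S'.mul_mem this (S'.inv_mem hb)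

omit [Finite G] in
/-- The conjugates of `S` generate `N`. -/
theorem BigMin.iSup_conj (hN : BigMin N) {S : Subgroup G} (hS : MinIn N S) :
    (⨆ g : G, S.map (MulAut.conj g).toMonoidHom) = N := by
  set U := ⨆ g : G, S.map (MulAut.conj g).toMonoidHom with hU
  have hUN : U ≤ N := iSup_le fun g => (hS.map_conj hN.normal g).le
  haveI hUn : U.Normal := by
    refine ⟨fun u hu h => ?_⟩
    have hle : U.map (MulAut.conj h).toMonoidHom ≤ U := by
      rw [hU, Subgroup.map_iSup]
      refine iSup_le fun g => le_iSup_of_le (h * g) ?_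
      rw [Subgroup.map_map]
      refine le_of_eq (congrArg (fun f => S.map f) ?_)
      ext x
      simp [mul_assoc]
    exact hle ⟨u, hu, rfl⟩
  refine (hN.min U hUn hUN).resolve_left fun h => hS.ne_bot ?_
  have h1 : S.map (MulAut.conj (1 : G)).toMonoidHom ≤ U := le_iSup_of_le 1 le_rfl
  rw [h, le_bot_iff, map_eq_bot_iff_of_injective _ (MulAut.conj (1 : G)).injective] at h1
  exact h1

omit [Finite G] in
theorem BigMin.inf_centralizer_self (hN : BigMin N) {S : Subgroup G} (hS : MinIn N S) :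
    S ⊓ centralizer (S : Set G) = ⊥ := by
  refine (hS.min _ inf_le_left (norm_inf hS.norm (norm_centralizer hS.norm))).resolve_right
    fun h => hN.noncomm ?_
  have habS : ∀ a ∈ S, ∀ b ∈ S, a * b = b * a := fun a ha b hb =>
    mem_centralizer_iff.1 ((h.ge hb).2) a ha
  have hcent : N ≤ centralizer (N : Set G) := by
    conv_lhs => rw [← hN.iSup_conj hS]
    refine iSup_le fun g => ?_
    rw [← le_centralizer_iff]
    conv_lhs => rw [← hN.iSup_conj hS]
    refine iSup_le fun g' => ?_
    intro b hb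
    rw [mem_centralizer_iff]
    intro a ha
    by_cases he : S.map (MulAut.conj g).toMonoidHom = S.map (MulAut.conj g').toMonoidHom
    · rw [← he] at hb
      obtain ⟨a', ha', rfl⟩ := ha
      obtain ⟨b', hb', rfl⟩ := hb
      simp only [← map_mul, habS a' ha' b' hb']
    · exact (hS.map_conj hN.normal g).commute (hS.map_conj hN.normal g') he a ha b hb
  intro a ha b hb
  exact mem_centralizer_iff.1 (hcent hb) a ha

omit [Finite G] in
theorem BigMin.exists_decomp (hN : BigMin N) {S : Subgroup G} (hS : MinIn N S) {x : G} (hx : x ∈ N) :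
    ∃ s ∈ S, ∃ t ∈ N ⊓ centralizer (S : Set G), x = s * t := by
  have hle : N ≤ S ⊔ (N ⊓ centralizer (S : Set G)) := by
    conv_lhs => rw [← hN.iSup_conj hS]
    refine iSup_le fun g => ?_
    by_cases he : S.map (MulAut.conj g).toMonoidHom = S
    · rw [he]; exact le_sup_left
    · refine le_trans (le_inf (hS.map_conj hN.normal g).le ?_) le_sup_right
      intro b hb
      rw [mem_centralizer_iff]
      intro a ha
      exact ((hS.map_conj hN.normal g).commute hS he b hb a ha).symm
  have hx' := hle hx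
  rw [← SetLike.mem_coe, coe_mul_of_right_le_normalizer_left S (N ⊓ centralizer (S : Set G))
    (inf_le_left.trans hS.norm)] at hx'
  obtain ⟨s, hs, t, ht, he⟩ := hx'
  exact ⟨s, hs, t, ht, he.symm⟩

theorem relIndex_sup_of_normal {H K : Subgroup G} [K.Normal] :
    H.relIndex (H ⊔ K) = H.relIndex K := by
  have h1 := relIndex_mul_index (inf_le_left : H ⊓ K ≤ H)
  have h2 := relIndex_mul_index (inf_le_right : H ⊓ K ≤ K)
  have h3 := relIndex_mul_index (le_sup_left : H ≤ H ⊔ K)
  have h4 := relIndex_mul_index (le_sup_right : K ≤ H ⊔ K)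
  rw [inf_relIndex_left] at h1
  rw [inf_relIndex_right, ← h1] at h2
  rw [relIndex_sup_right] at h4
  rw [← h3, ← h4] at h2
  have hpos : K.relIndex H * (H ⊔ K).index ≠ 0 :=
    mul_ne_zero (index_ne_zero_of_finite (H := K.subgroupOf H)) index_ne_zero_of_finite
  exact mul_left_cancel₀ hpos (by linear_combination -h2)

/-- A Sylow subgroup meets a normalised subgroup in a Sylow subgroup. -/
theorem relIndex_dvd_of_norm {H K L : Subgroup G} (hK : K ≤ L)
    (hn : L ≤ normalizer (K : Set G)) : H.relIndex K ∣ H.relIndex L := by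
  haveI : (K.subgroupOf L).Normal := normal_subgroupOf_iff_le_normalizer hK |>.2 hn
  rw [← relIndex_subgroupOf (H := H) hK, ← relIndex_sup_of_normal, ← show (H.subgroupOf L).index = H.relIndex L from rfl,
    ← relIndex_mul_index (le_sup_left : H.subgroupOf L ≤ H.subgroupOf L ⊔ K.subgroupOf L)]
  exact dvd_mul_right _ _

theorem BigMin.not_dvd_relIndex (hN : BigMin N) {S : Subgroup G} (hS : MinIn N S) (P : Sylow p G) :
    ¬ p ∣ (P : Subgroup G).relIndex S := by
  haveI := hN.normal
  intro h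
  have h1 : ((P : Subgroup G) ⊓ N).relIndex N ∣ (P : Subgroup G).index := by
    rw [inf_relIndex_right, ← relIndex_top_right]
    refine relIndex_dvd_of_norm le_top ?_
    rw [normalizer_eq_top]
  have h2 : ((P : Subgroup G) ⊓ N).relIndex S = (P : Subgroup G).relIndex S := by
    rw [← inf_relIndex_right, inf_assoc, inf_eq_right.2 hS.le, inf_relIndex_right]
  rw [← h2] at h
  exact P.not_dvd_index ((h.trans (relIndex_dvd_of_norm hS.le hS.norm)).trans h1)

/-- Decomposition inside the Sylow subgroup. -/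
theorem BigMin.exists_decomp_sylow (hN : BigMin N) {S : Subgroup G} (hS : MinIn N S) (P : Sylow p G)
    {x : G} (hxP : x ∈ (P : Subgroup G)) (hx : x ∈ N) :
    ∃ s ∈ (P : Subgroup G) ⊓ S, ∃ t ∈ (P : Subgroup G) ⊓ (N ⊓ centralizer (S : Set G)), x = s * t := by
  obtain ⟨s, hs, t, ht, rfl⟩ := hN.exists_decomp hS hx
  suffices hsP : s ∈ (P : Subgroup G) by
    refine ⟨s, ⟨hsP, hs⟩, t, ⟨?_, ht⟩, rfl⟩
    have := (P : Subgroup G).mul_mem ((P : Subgroup G).inv_mem hsP) hxP
    rwa [inv_mul_cancel_left] at this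
  have hst : Commute s t := mem_centralizer_iff.1 ht.2 s hs
  set A := (P : Subgroup G) ⊓ S with hA
  obtain ⟨k, hk⟩ := P.isPGroup' ⟨s * t, hxP⟩
  have hk' : (s * t) ^ p ^ k = 1 := congrArg Subtype.val hk
  have hsk : s ^ p ^ k = 1 := by
    rw [← mem_bot, ← hN.inf_centralizer_self hS]
    refine ⟨S.pow_mem hs _, ?_⟩
    rw [hst.mul_pow] at hk'
    rw [eq_inv_of_mul_eq_one_left hk']
    exact Subgroup.inv_mem _ (Subgroup.pow_mem _ ht.2 _)
  have hz : IsPGroup p (zpowers s) := by
    rintro ⟨z, hz⟩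
    obtain ⟨m, rfl⟩ := mem_zpowers_iff.1 hz
    exact ⟨k, Subtype.ext (by
      change (s ^ m) ^ p ^ k = 1
      rw [← zpow_natCast, zpow_comm, zpow_natCast, hsk, one_zpow])⟩
  have hsn : s ∈ normalizer (A : Set G) := by
    have hfin : ∀ a ∈ A, s * a * s⁻¹ ∈ A := by
      intro a ha
      refine ⟨?_, S.mul_mem (S.mul_mem hs ha.2) (S.inv_mem hs)⟩
      have h1 : (s * t) * a * (s * t)⁻¹ ∈ (P : Subgroup G) :=
        mul_mem (mul_mem hxP ha.1) (inv_mem hxP)
      have h2 : t * a * t⁻¹ = a := by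
        rw [← mem_centralizer_iff.1 ht.2 a ha.2, mul_inv_cancel_right]
      have : s * t * a * (s * t)⁻¹ = s * a * s⁻¹ := by
        calc s * t * a * (s * t)⁻¹ = s * (t * a * t⁻¹) * s⁻¹ := by group
          _ = _ := by rw [h2]
      rwa [this] at h1
    exact mem_normalizer_fintype hfin
  have hpA : IsPGroup p A := P.isPGroup'.to_le inf_le_left
  have hU : IsPGroup p (zpowers s ⊔ A : Subgroup G) :=
    hz.to_sup_of_normal_right' hpA (zpowers_le.2 hsn)
  have hUS : zpowers s ⊔ A ≤ S := sup_le (zpowers_le.2 hs) inf_le_right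
  obtain ⟨m, hm⟩ := hU.index (A.subgroupOf (zpowers s ⊔ A))
  have hm0 : m = 0 := by
    by_contra hne
    apply hN.not_dvd_relIndex hS P
    rw [← inf_relIndex_right, ← hA, ← relIndex_mul_relIndex A (zpowers s ⊔ A) S le_sup_right hUS]
    exact (dvd_pow_self p hne).trans (hm ▸ dvd_mul_right _ _)
  have : A.relIndex (zpowers s ⊔ A) = 1 := by rw [relIndex, hm, hm0, pow_zero]
  exact (relIndex_eq_one.1 this (mem_sup_left (mem_zpowers s))).1

theorem BigMin.inf_ne_bot (hN : BigMin N) {S : Subgroup G} (hS : MinIn N S) (P : Sylow p G)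
    (hne : (P : Subgroup G) ⊓ N ≠ ⊥) : (P : Subgroup G) ⊓ S ≠ ⊥ := by
  intro h
  apply hne
  rw [eq_bot_iff, ← hN.inf_centralizer]
  intro q hq
  refine ⟨hq.2, ?_⟩
  have hcard : ¬ p ∣ Nat.card S := by
    have := hN.not_dvd_relIndex hS P
    rwa [← inf_relIndex_right, h, relIndex_bot_left] at this
  have hle : N ≤ centralizer ({q} : Set G) := by
    conv_lhs => rw [← hN.iSup_conj hS]
    refine iSup_le fun g => ?_
    obtain ⟨s, hs, t, ht, rfl⟩ := hN.exists_decomp_sylow (hS.map_conj hN.normal g) P hq.1 hq.2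
    have hs1 : s = 1 := by
      obtain ⟨k, hk⟩ := P.isPGroup' ⟨s, hs.1⟩
      have hk' : s ^ p ^ k = 1 := congrArg Subtype.val hk
      have hd : orderOf s ∣ Nat.card S := by
        rw [← Subgroup.card_map_of_injective (K := S) (f := (MulAut.conj g).toMonoidHom) (MulAut.conj g).injective]
        exact Subgroup.orderOf_dvd_natCard _ hs.2
      rw [← orderOf_eq_one_iff]
      exact Nat.eq_one_of_dvd_coprimes ((Nat.Coprime.pow_left k ((hp.out.coprime_iff_not_dvd).2 hcard)))
        (orderOf_dvd_of_pow_eq_one hk') hd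
    rw [hs1, one_mul]
    intro a ha
    rw [mem_centralizer_singleton_iff]
    exact mem_centralizer_iff.1 ht.2.2 a ha
  show q ∈ centralizer (N : Set G)
  rw [mem_centralizer_iff]
  intro a ha
  exact mem_centralizer_singleton_iff.1 (hle ha)

omit [Finite G] in
theorem BigMin.exists_conj_ne (hN : BigMin N) {S : Subgroup G} (hS : MinIn N S) (hne : S ≠ N) :
    ∃ S', MinIn N S' ∧ S' ≠ S := by
  by_contra hall
  push Not at hall
  apply hne
  rw [← hN.iSup_conj hS]
  refine le_antisymm ?_ (iSup_le fun g => (hall _ (hS.map_conj hN.normal g)).le)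
  exact le_iSup_of_le 1 (hall _ (hS.map_conj hN.normal 1)).ge

end H28.AbelTwo
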