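import Mathlib
import Cfsg.Agent.H30.IterComm

/-!
# `p`-groups whose commutator quotient has order `p²`

Elementary lemmas: a cyclic commutator quotient forces commutativity; a direct decomposition
forces commutativity; a commutative maximal subgroup forces an element with centraliser of
order `p²`.
-/

set_option autoImplicit false
set_option linter.style.haveILetI false

namespace H28.AbelTwo

open Subgroup
open scoped commutatorElement

variable {X : Type*} [Group X] [Finite X] {p : ℕ} [hp : Fact p.Prime]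

omit [Finite X] hp in
/-- A quotient by `M` is commutative when a subgroup of prime index is central modulo `M`. -/
theorem commutator_le_of_central_index_prime {M Q : Subgroup X} [hM : M.Normal] [hQ : Q.Normal]
    (hi : Q.index.Prime) (hMQ : M ≤ Q) (hc : ∀ q ∈ Q, ∀ x : X, ⁅q, x⁆ ∈ M) :
    commutator X ≤ M := by
  haveI : Fact Q.index.Prime := ⟨hi⟩
  haveI : IsCyclic (X ⧸ Q) := isCyclic_of_prime_card (p := Q.index) rfl
  let f : X ⧸ M →* X ⧸ Q := QuotientGroup.map M Q (MonoidHom.id X) hMQ
  haveI := MonoidHom.isMulCommutative_of_isCyclic_of_ker_le_center f (by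
    intro z hz
    induction z using QuotientGroup.induction_on with
    | H q =>
      have hq : q ∈ Q := (QuotientGroup.eq_one_iff q).1 hz
      rw [mem_center_iff]
      intro w
      induction w using QuotientGroup.induction_on with
      | H x =>
        symm
        rw [← commutatorElement_eq_one_iff_mul_comm]
        exact (QuotientGroup.eq_one_iff _).2 (hc q hq x))
  rw [_root_.commutator_def, commutator_le]
  intro a _ b _
  rw [← QuotientGroup.eq_one_iff]
  exact commutatorElement_eq_one_iff_mul_comm.2 (mul_comm' (a : X ⧸ M) (b : X ⧸ M))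

/-- A finite `p`-group whose commutator quotient has order at most `p` is commutative. -/
theorem isMulCommutative_of_index_le (hX : IsPGroup p X) (h : (commutator X).index ≤ p) :
    IsMulCommutative X := by
  haveI := hX.isNilpotent
  obtain ⟨k, hk⟩ := hX.index (commutator X)
  rcases Nat.lt_or_ge k 1 with hk0 | hk1
  · have htop : commutator X = ⊤ := index_eq_one.1 (by rw [hk, Nat.lt_one_iff.1 hk0, pow_zero])
    refine ⟨⟨fun a b => ?_⟩⟩
    by_contra hne
    have hnt : Nontrivial X := ⟨⟨a * b, b * a, hne⟩⟩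
    exact (Group.IsSolvable.commutator_lt_top_of_nontrivial (G := X)).ne htop
  · have hk1' : k = 1 := by
      by_contra hne
      have : p ^ 2 ≤ p ^ k := Nat.pow_le_pow_right hp.out.pos (by omega)
      have : p < p ^ 2 := by
        have := hp.out.two_le
        nlinarith
      omega
    rw [hk1', pow_one] at hk
    obtain ⟨a, ha⟩ : ∃ a, a ∉ commutator X := by
      by_contra hall
      push Not at hall
      rw [(eq_top_iff' _).2 hall, index_top] at hk
      exact hp.out.one_lt.ne' hk.symm
    have hsup : zpowers a ⊔ commutator X = ⊤ := by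
      have hrel := relIndex_mul_index (le_sup_right : commutator X ≤ zpowers a ⊔ commutator X)
      rw [hk] at hrel
      rcases (Nat.dvd_prime hp.out).1 (Dvd.intro_left _ hrel) with h1 | h1
      · exact index_eq_one.1 h1
      · rw [h1] at hrel
        have h2 : (commutator X).relIndex (zpowers a ⊔ commutator X) = 1 := by
          have := hp.out.pos
          nlinarith
        exact absurd (relIndex_eq_one.1 h2 (mem_sup_left (mem_zpowers a))) ha
    have hfr : commutator X ≤ frattini X := by
      refine le_iInf₂ fun K hK => ?_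
      have := NormalizerCondition.normal_of_coatom K Group.normalizerCondition_of_isNilpotent hK
      haveI := this
      obtain ⟨x, hx⟩ : ∃ x, x ∉ K := by
        by_contra hall
        push Not at hall
        exact hK.1 ((eq_top_iff' _).2 hall)
      have hcyc : IsCyclic (X ⧸ K) := by
        refine ⟨⟨(x : X ⧸ K), fun q => ?_⟩⟩
        induction q using QuotientGroup.induction_on with
        | H g =>
          have hle : K ⊔ zpowers x = ⊤ := hK.2 _ (lt_of_le_of_ne le_sup_left fun he =>
            hx (he ▸ mem_sup_right (mem_zpowers x)))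
          have hg : g ∈ K ⊔ zpowers x := hle ▸ mem_top g
          obtain ⟨k, hk, z, hz, rfl⟩ := Subgroup.mem_sup_of_normal_left.1 hg
          obtain ⟨n, rfl⟩ := mem_zpowers_iff.1 hz
          exact ⟨n, by simp [(QuotientGroup.eq_one_iff k).2 hk]⟩
      rw [_root_.commutator_def, commutator_le]
      intro a _ b _
      rw [← QuotientGroup.eq_one_iff]
      haveI : IsMulCommutative (X ⧸ K) := IsCyclic.isMulCommutative
      exact commutatorElement_eq_one_iff_mul_comm.2 (mul_comm' (a : X ⧸ K) (b : X ⧸ K))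
    have htop : zpowers a = ⊤ := frattini_nongenerating (le_antisymm le_top
      (hsup ▸ sup_le le_sup_left (hfr.trans le_sup_right)))
    refine ⟨⟨fun x y => ?_⟩⟩
    obtain ⟨m, rfl⟩ := mem_zpowers_iff.1 (htop ▸ mem_top x)
    obtain ⟨n, rfl⟩ := mem_zpowers_iff.1 (htop ▸ mem_top y)
    exact ((Commute.refl a).zpow_zpow m n).eq

/-- A proper bound on `⁅A, ⊤⁆` for a nontrivial normal subgroup. -/
theorem card_commutator_top_mul_le (hX : IsPGroup p X) {A : Subgroup X} (hA : A.Normal)
    (hne : A ≠ ⊥) : Nat.card ↥⁅A, (⊤ : Subgroup X)⁆ * p ≤ Nat.card A := by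
  haveI := hA
  have hlt := H30.commutator_top_lt hX hA hne
  obtain ⟨j, hj⟩ := (hX.to_subgroup A).exists_card_eq
  obtain ⟨i, hi⟩ := (hX.to_subgroup ⁅A, (⊤ : Subgroup X)⁆).exists_card_eq
  have hlt2 : Nat.card ↥⁅A, (⊤ : Subgroup X)⁆ < Nat.card A :=
    lt_of_not_ge fun h => hlt.ne (Subgroup.eq_of_le_of_card_ge hlt.le h)
  rw [hi, hj] at hlt2 ⊢
  have hij := (Nat.pow_lt_pow_iff_right hp.out.one_lt).1 hlt2
  rw [← pow_succ]
  exact Nat.pow_le_pow_right hp.out.pos hij

/-- Two normal subgroups that generate, commute and meet trivially. -/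
theorem isMulCommutative_of_split (hX : IsPGroup p X) (hi : (commutator X).index = p ^ 2)
    {A B : Subgroup X} (hcomm : ∀ a ∈ A, ∀ b ∈ B, a * b = b * a) (hinf : A ⊓ B = ⊥)
    (hsup : A ⊔ B = ⊤) (hA : A ≠ ⊥) (hB : B ≠ ⊥) : IsMulCommutative X := by
  let φ : A × B →* X := MonoidHom.noncommCoprod A.subtype B.subtype
    (fun a b => hcomm a a.2 b b.2)
  have hinj : Function.Injective φ := by
    rw [injective_iff_map_eq_one]
    rintro ⟨a, b⟩ h
    have h' : (a : X) * b = 1 := h
    have ha : (a : X) ∈ A ⊓ B := ⟨a.2, by rw [mul_eq_one_iff_eq_inv.mp h']; exact B.inv_mem b.2⟩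
    rw [hinf, Subgroup.mem_bot] at ha
    rw [ha, one_mul] at h'
    exact Prod.ext (Subtype.ext ha) (Subtype.ext h')
  have hsurj : Function.Surjective φ := by
    rw [← MonoidHom.range_eq_top, ← top_le_iff, ← hsup]
    exact sup_le (fun a ha => ⟨(⟨a, ha⟩, 1), show a * 1 = a from mul_one a⟩) (fun b hb => ⟨(1, ⟨b, hb⟩), show 1 * b = b from one_mul b⟩)
  let e := MulEquiv.ofBijective φ ⟨hinj, hsurj⟩
  have hd : (commutator (↥A × ↥B)) = (commutator A).prod (commutator B) := by
    rw [_root_.commutator_def, _root_.commutator_def, _root_.commutator_def, ← Subgroup.top_prod_top,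
      Subgroup.commutator_prod_prod]
  have hidx : (commutator A).index * (commutator B).index = p ^ 2 := by
    rw [← hi, ← Subgroup.index_prod, ← hd]
    rw [_root_.commutator_def, _root_.commutator_def (G := X), ← Subgroup.map_top_of_surjective e.toMonoidHom e.surjective,
      ← Subgroup.map_commutator]
    exact (Subgroup.index_map_equiv _ e).symm
  have key : ∀ (H : Subgroup X), H ≠ ⊥ → p ∣ (commutator H).index := by
    intro H hH
    haveI : Nontrivial H := (Subgroup.nontrivial_iff_ne_bot H).2 hH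
    haveI := (hX.to_subgroup H).isNilpotent
    obtain ⟨k, hk⟩ := (hX.to_subgroup H).index (commutator H)
    rcases Nat.eq_zero_or_pos k with rfl | hkpos
    · exact absurd (index_eq_one.1 (by simpa using hk))
        (Group.IsSolvable.commutator_lt_top_of_nontrivial (G := H)).ne
    · rw [hk]; exact dvd_pow_self p hkpos.ne'
  obtain ⟨u, hu⟩ := key A hA
  obtain ⟨v, hv⟩ := key B hB
  have huv : u * v = 1 := by
    rw [hu, hv] at hidx
    have h2 : p ^ 2 * (u * v) = p ^ 2 * 1 := by rw [mul_one]; linear_combination hidx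
    exact Nat.eq_of_mul_eq_mul_left (pow_pos hp.out.pos 2) h2
  obtain ⟨rfl, rfl⟩ := mul_eq_one.1 huv
  haveI := isMulCommutative_of_index_le (hX.to_subgroup A) (hu.le.trans_eq (mul_one p))
  haveI := isMulCommutative_of_index_le (hX.to_subgroup B) (hv.le.trans_eq (mul_one p))
  refine ⟨⟨fun x y => ?_⟩⟩
  obtain ⟨⟨a, b⟩, rfl⟩ := hsurj x
  obtain ⟨⟨a', b'⟩, rfl⟩ := hsurj y
  rw [← map_mul, ← map_mul]
  congr 1
  exact Prod.ext (mul_comm' a a') (mul_comm' b b')

/-- A commutative maximal subgroup gives elements with small centraliser. -/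
theorem card_centralizer_of_abelian_maximal (hi : (commutator X).index = p ^ 2)
    {Q : Subgroup X} [Q.Normal] (hQi : Q.index = p) (hQab : IsMulCommutative Q)
    {y : X} (hy : y ∉ Q) : Nat.card (centralizer ({y} : Set X)) = p ^ 2 := by
  have hcQ : ∀ a ∈ Q, ∀ b ∈ Q, a * b = b * a := fun a ha b hb =>
    congrArg Subtype.val (mul_comm' (⟨a, ha⟩ : Q) ⟨b, hb⟩)
  have hconj : ∀ a ∈ Q, y * a * y⁻¹ ∈ Q := fun a ha => Normal.conj_mem ‹_› a ha y
  let c : Q →* X := MonoidHom.mk' (fun q => ⁅(q : X), y⁆) (by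
    rintro ⟨a, ha⟩ ⟨b, hb⟩
    simp only [Subgroup.coe_mul, commutatorElement_def]
    have h1 : b * (y * b⁻¹ * y⁻¹) = (y * b⁻¹ * y⁻¹) * b :=
      hcQ b hb _ (hconj _ (Q.inv_mem hb))
    have h2 : a * (y * a⁻¹ * y⁻¹) * (b * (y * b⁻¹ * y⁻¹))
        = a * b * ((y * b⁻¹ * y⁻¹) * (y * a⁻¹ * y⁻¹)) := by
      rw [hcQ (y * b⁻¹ * y⁻¹) (hconj _ (Q.inv_mem hb)) (y * a⁻¹ * y⁻¹) (hconj _ (Q.inv_mem ha))]
      rw [← mul_assoc, ← mul_assoc, mul_assoc a (y * a⁻¹ * y⁻¹) b,
        hcQ (y * a⁻¹ * y⁻¹) (hconj _ (Q.inv_mem ha)) b hb]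
      group
    calc a * b * y * (a * b)⁻¹ * y⁻¹ = a * b * ((y * b⁻¹ * y⁻¹) * (y * a⁻¹ * y⁻¹)) := by group
      _ = a * (y * a⁻¹ * y⁻¹) * (b * (y * b⁻¹ * y⁻¹)) := h2.symm
      _ = _ := by group)
  have hyQ : zpowers y ⊔ Q = ⊤ := by
    have hrel := relIndex_mul_index (le_sup_right : Q ≤ zpowers y ⊔ Q)
    rw [hQi] at hrel
    rcases (Nat.dvd_prime hp.out).1 (Dvd.intro_left _ hrel) with h1 | h1
    · exact index_eq_one.1 h1
    · rw [h1] at hrel
      have h2 : Q.relIndex (zpowers y ⊔ Q) = 1 := by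
        have := hp.out.pos
        nlinarith
      exact absurd (relIndex_eq_one.1 h2 (mem_sup_left (mem_zpowers y))) hy
  have hdec : ∀ g : X, ∃ k : ℤ, ∃ a ∈ Q, g = y ^ k * a := by
    intro g
    have hg : g ∈ zpowers y ⊔ Q := hyQ ▸ mem_top g
    obtain ⟨z, hz, a, ha, rfl⟩ := Subgroup.mem_sup_of_normal_right.1 hg
    obtain ⟨k, rfl⟩ := mem_zpowers_iff.1 hz
    exact ⟨k, a, ha, rfl⟩
  have hRQ : c.range ≤ Q := by
    rintro _ ⟨q, rfl⟩
    change (q : X) * y * (q : X)⁻¹ * y⁻¹ ∈ Q
    have : (q : X) * y * (q : X)⁻¹ * y⁻¹ = q * (y * (q : X)⁻¹ * y⁻¹) := by group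
    rw [this]
    exact Q.mul_mem q.2 (hconj _ (Q.inv_mem q.2))
  haveI : c.range.Normal := ⟨fun r hr g => by
    obtain ⟨k, a, ha, rfl⟩ := hdec g
    have har : a * r * a⁻¹ = r := by rw [hcQ a ha r (hRQ hr), mul_inv_cancel_right]
    have hstep : y ^ k * a * r * (y ^ k * a)⁻¹ = y ^ k * r * (y ^ k)⁻¹ := by
      conv_rhs => rw [← har]
      group
    rw [hstep]
    obtain ⟨q, rfl⟩ := hr
    refine ⟨⟨y ^ k * (q : X) * (y ^ k)⁻¹, Normal.conj_mem ‹Q.Normal› q q.2 (y ^ k)⟩, ?_⟩
    simp only [c, MonoidHom.mk'_apply, commutatorElement_def]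
    group⟩
  have hle : commutator X ≤ c.range := by
    refine commutator_le_of_central_index_prime (hQi.symm ▸ hp.out) hRQ ?_
    intro q hq x
    obtain ⟨k, a, ha, rfl⟩ := hdec x
    rw [← QuotientGroup.eq_one_iff]
    change QuotientGroup.mk' c.range ⁅q, y ^ k * a⁆ = 1
    rw [map_commutatorElement, map_mul, map_zpow, commutatorElement_eq_one_iff_mul_comm]
    have h1 : Commute (QuotientGroup.mk' c.range q) (QuotientGroup.mk' c.range y) := by
      rw [← commutatorElement_eq_one_iff_commute, ← map_commutatorElement]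
      exact (QuotientGroup.eq_one_iff _).2 ⟨⟨q, hq⟩, rfl⟩
    have h2 : Commute (QuotientGroup.mk' c.range q) (QuotientGroup.mk' c.range a) :=
      (show Commute q a from hcQ q hq a ha).map _
    exact ((h1.zpow_right k).mul_right h2).eq
  have hge : c.range ≤ commutator X := by
    rintro _ ⟨q, rfl⟩
    exact commutator_mem_commutator (mem_top _) (mem_top _)
  have hR : c.range = commutator X := le_antisymm hge hle
  have hker : c.ker = (centralizer ({y} : Set X)).subgroupOf Q := by
    ext q
    rw [MonoidHom.mem_ker, mem_subgroupOf, mem_centralizer_singleton_iff]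
    exact commutatorElement_eq_one_iff_mul_comm
  set C := centralizer ({y} : Set X) with hC
  have h1 : C.relIndex Q * p ^ 2 = Nat.card X := by
    rw [show C.relIndex Q = c.ker.index from by rw [hker]; rfl, Subgroup.index_ker, hR, ← hi,
      Subgroup.card_mul_index]
  have hyC : y ∈ C := mem_centralizer_singleton_iff.2 rfl
  have hCQ : Q ⊔ C = ⊤ := top_le_iff.1
    (hyQ ▸ sup_le ((zpowers_le.2 hyC).trans le_sup_right) le_sup_left)
  have h2 : Q.relIndex C = p := by
    rw [← Subgroup.relIndex_sup_left, hCQ, Subgroup.relIndex_top_right, hQi]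
  have h4 : Q.relIndex C * C.index = C.relIndex Q * Q.index := by
    rw [← Subgroup.inf_relIndex_right Q C, relIndex_mul_index inf_le_right,
      ← Subgroup.inf_relIndex_right C Q, relIndex_mul_index inf_le_right, inf_comm]
  rw [h2, hQi, mul_comm] at h4
  have h5 : C.index = C.relIndex Q := Nat.eq_of_mul_eq_mul_right hp.out.pos h4
  have h6 := Subgroup.card_mul_index C
  rw [h5, ← h1, mul_comm] at h6
  have hpos : 0 < C.relIndex Q := by
    rw [← h5]
    exact Nat.pos_of_ne_zero Subgroup.index_ne_zero_of_finite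
  exact Nat.eq_of_mul_eq_mul_left hpos h6

end H28.AbelTwo
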