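import Mathlib
import Cfsg.Agent.H28.AbelTwo.PGroup
import Cfsg.Agent.H28.AbelTwo.MinIn

/-!
# The split and the invariant case
-/

set_option autoImplicit false
set_option linter.style.haveILetI false

namespace H28.AbelTwo

open Subgroup
open scoped commutatorElement

variable {G : Type*} [Group G] [Finite G] {p : ℕ} [hp : Fact p.Prime]

/-- The derived subgroup of a finite `p`-group lies in the Frattini subgroup. -/
theorem commutator_le_frattini {X : Type*} [Group X] [Finite X] (hX : IsPGroup p X) :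
    commutator X ≤ frattini X := by
  haveI := hX.isNilpotent
  refine le_iInf₂ fun K hK => ?_
  haveI := NormalizerCondition.normal_of_coatom K Group.normalizerCondition_of_isNilpotent hK
  obtain ⟨x, hx⟩ : ∃ x, x ∉ K := by
    by_contra hall
    push Not at hall
    exact hK.1 ((eq_top_iff' _).2 hall)
  have hcyc : IsCyclic (X ⧸ K) := by
    refine ⟨⟨(x : X ⧸ K), fun q => ?_⟩⟩
    induction q using QuotientGroup.induction_on with
    | H g =>
      have hle : K ⊔ zpowers x = ⊤ := hK.2 _ (lt_of_le_of_ne le_sup_left fun he =>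
        hx (he ▸ mem_sup_right (mem_zpowers x)))
      have hg : g ∈ K ⊔ zpowers x := hle ▸ mem_top g
      obtain ⟨k, hk, z, hz, rfl⟩ := Subgroup.mem_sup_of_normal_left.1 hg
      obtain ⟨n, rfl⟩ := mem_zpowers_iff.1 hz
      exact ⟨n, by simp [(QuotientGroup.eq_one_iff k).2 hk]⟩
  haveI : IsMulCommutative (X ⧸ K) := IsCyclic.isMulCommutative
  rw [_root_.commutator_def, commutator_le]
  intro a _ b _
  rw [← QuotientGroup.eq_one_iff]
  exact commutatorElement_eq_one_iff_mul_comm.2 (mul_comm' (a : X ⧸ K) (b : X ⧸ K))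

omit [Finite G] in
/-- A subgroup of prime index and an element outside it generate. -/
theorem sup_eq_top_of_index_prime {Q H : Subgroup G} (hQ : Q.index = p) (h : ¬ H ≤ Q) :
    Q ⊔ H = ⊤ := by
  have hrel := relIndex_mul_index (le_sup_left : Q ≤ Q ⊔ H)
  rw [hQ] at hrel
  rcases (Nat.dvd_prime hp.out).1 (Dvd.intro_left _ hrel) with h1 | h1
  · exact index_eq_one.1 h1
  · rw [h1] at hrel
    have h2 : Q.relIndex (Q ⊔ H) = 1 := by
      have := hp.out.pos
      nlinarith
    exact absurd ((le_sup_right).trans (relIndex_eq_one.1 h2)) h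

variable {N : Subgroup G}

omit [Finite G] in
theorem MinIn.le_centralizer_of_ne {S S' : Subgroup G} (hS : MinIn N S) (hS' : MinIn N S')
    (hne : S' ≠ S) : S' ≤ N ⊓ centralizer (S : Set G) := by
  refine le_inf hS'.le fun b hb => ?_
  show b ∈ centralizer (S : Set G)
  rw [mem_centralizer_iff]
  intro a ha
  exact (hS'.commute hS hne b hb a ha).symm

theorem BigMin.trace_ne_bot (hN : BigMin N) {S : Subgroup G} (hS : MinIn N S) (P : Sylow p G)
    (hQ : (P : Subgroup G) ⊓ N ≠ ⊥) (hne : S ≠ N) :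
    (N ⊓ centralizer (S : Set G)).subgroupOf (P : Subgroup G) ≠ ⊥ := by
  intro h
  obtain ⟨S', hS', hne'⟩ := hN.exists_conj_ne hS hne
  apply hN.inf_ne_bot hS' P hQ
  rw [subgroupOf_eq_bot, disjoint_iff, inf_comm] at h
  rw [eq_bot_iff, ← h]
  exact inf_le_inf le_rfl (hS.le_centralizer_of_ne hS' hne')

theorem BigMin.subgroupOf_ne_bot (hN : BigMin N) {S : Subgroup G} (hS : MinIn N S) (P : Sylow p G)
    (hQ : (P : Subgroup G) ⊓ N ≠ ⊥) : S.subgroupOf (P : Subgroup G) ≠ ⊥ := by
  intro h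
  apply hN.inf_ne_bot hS P hQ
  rwa [subgroupOf_eq_bot, disjoint_iff, inf_comm] at h

omit [Finite G] in
theorem BigMin.disjoint_subgroupOf (hN : BigMin N) {S : Subgroup G} (hS : MinIn N S) (U : Subgroup G) :
    Disjoint (S.subgroupOf U) ((N ⊓ centralizer (S : Set G)).subgroupOf U) := by
  rw [disjoint_iff, eq_bot_iff]
  rintro x ⟨hx1, hx2⟩
  have : (x : G) ∈ S ⊓ centralizer (S : Set G) := ⟨hx1, hx2.2⟩
  rw [hN.inf_centralizer_self hS, mem_bot] at this
  exact Subtype.ext this

theorem BigMin.false_of_split (hN : BigMin N) {S : Subgroup G} (hS : MinIn N S) (P : Sylow p G)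
    (hQ : (P : Subgroup G) ⊓ N ≠ ⊥) (hne : S ≠ N) (hPN : (P : Subgroup G) ≤ N)
    (hi : (commutator ↥(P : Subgroup G)).index = p ^ 2)
    (hnab : ¬ IsMulCommutative ↥(P : Subgroup G)) : False := by
  apply hnab
  refine isMulCommutative_of_split P.isPGroup' hi (A := S.subgroupOf (P : Subgroup G))
    (B := (N ⊓ centralizer (S : Set G)).subgroupOf (P : Subgroup G)) ?_
    (hN.disjoint_subgroupOf hS _).eq_bot ?_ (hN.subgroupOf_ne_bot hS P hQ)
    (hN.trace_ne_bot hS P hQ hne)
  · intro a ha b hb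
    exact Subtype.ext (mem_centralizer_iff.1 hb.2 _ ha)
  · rw [eq_top_iff]
    intro x _
    obtain ⟨s, hs, t, ht, he⟩ := hN.exists_decomp_sylow hS P x.2 (hPN x.2)
    have : x = ⟨s, hs.1⟩ * ⟨t, ht.1⟩ := Subtype.ext he
    rw [this]
    exact Subgroup.mul_mem _ (mem_sup_left hs.2) (mem_sup_right ht.2)

/-- No minimal factor is invariant under the Sylow subgroup. -/
theorem BigMin.false_of_invariant (hN : BigMin N) {S : Subgroup G} (hS : MinIn N S) (P : Sylow p G)
    (hQ : (P : Subgroup G) ⊓ N ≠ ⊥) (hne : S ≠ N)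
    (hidx : (N.subgroupOf (P : Subgroup G)).index = p)
    (hPS : (P : Subgroup G) ≤ normalizer (S : Set G))
    (hi : (commutator ↥(P : Subgroup G)).index = p ^ 2) : False := by
  haveI := hN.normal
  set Q := N.subgroupOf (P : Subgroup G) with hQdef
  set A := S.subgroupOf (P : Subgroup G) with hAdef
  set B := (N ⊓ centralizer (S : Set G)).subgroupOf (P : Subgroup G) with hBdef
  haveI hA : A.Normal := ⟨fun a ha x => (mem_normalizer_iff.1 (hPS x.2) _).1 ha⟩
  haveI hB : B.Normal := ⟨fun b hb x => ⟨hN.normal.conj_mem _ hb.1 _,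
    (mem_normalizer_iff.1 (norm_centralizer hPS x.2) _).1 hb.2⟩⟩
  have hQAB : ∀ q ∈ Q, ∃ a ∈ A, ∃ b ∈ B, q = a * b := fun q hq => by
    obtain ⟨s, hs, t, ht, he⟩ := hN.exists_decomp_sylow hS P q.2 hq
    exact ⟨⟨s, hs.1⟩, hs.2, ⟨t, ht.1⟩, ht.2, Subtype.ext he⟩
  set M := ⁅A, (⊤ : Subgroup ↥(P : Subgroup G))⁆ ⊔ ⁅B, (⊤ : Subgroup ↥(P : Subgroup G))⁆ with hM
  have hMle : commutator ↥(P : Subgroup G) ≤ M := by
    refine commutator_le_of_central_index_prime (hidx.symm ▸ hp.out) ?_ ?_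
    · exact sup_le ((commutator_le_left A ⊤).trans fun a ha => hS.le ha)
        ((commutator_le_left B ⊤).trans fun b hb => hb.1)
    · intro q hq x
      obtain ⟨a, ha, b, hb, rfl⟩ := hQAB q hq
      have e : ⁅a * b, x⁆ = a * ⁅b, x⁆ * a⁻¹ * ⁅a, x⁆ := by
        simp only [commutatorElement_def]; group
      rw [e]
      refine M.mul_mem (Normal.conj_mem inferInstance _ ?_ a) (mem_sup_left ?_)
      · exact mem_sup_right (commutator_mem_commutator hb (mem_top x))
      · exact commutator_mem_commutator ha (mem_top x)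
  have hA' := card_commutator_top_mul_le P.isPGroup' hA (hN.subgroupOf_ne_bot hS P hQ)
  have hB' := card_commutator_top_mul_le P.isPGroup' hB (hN.trace_ne_bot hS P hQ hne)
  set a' := Nat.card ↥⁅A, (⊤ : Subgroup ↥(P : Subgroup G))⁆
  set b' := Nat.card ↥⁅B, (⊤ : Subgroup ↥(P : Subgroup G))⁆
  have hMcard : Nat.card M ≤ a' * b' := by
    let φ : ↥⁅A, (⊤ : Subgroup ↥(P : Subgroup G))⁆ × ↥⁅B, (⊤ : Subgroup ↥(P : Subgroup G))⁆ → M :=
      fun z => ⟨z.1.1 * z.2.1, M.mul_mem (mem_sup_left z.1.2) (mem_sup_right z.2.2)⟩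
    have hφ : Function.Surjective φ := by
      rintro ⟨m, hm⟩
      obtain ⟨a, ha, b, hb, rfl⟩ := Subgroup.mem_sup_of_normal_right.1 hm
      exact ⟨(⟨a, ha⟩, ⟨b, hb⟩), rfl⟩
    rw [show a' * b' = _ from (Nat.card_prod _ _).symm]
    exact Nat.card_le_card_of_surjective φ hφ
  have hABcard : Nat.card A * Nat.card B ≤ Nat.card Q := by
    let φ : A × B → Q := fun z => ⟨z.1.1 * z.2.1, Q.mul_mem (hS.le z.1.2) z.2.2.1⟩
    have hφ : Function.Injective φ := fun z w h =>
      mul_injective_of_disjoint (hN.disjoint_subgroupOf hS _) (congrArg Subtype.val h)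
    rw [← Nat.card_prod]
    exact Nat.card_le_card_of_injective φ hφ
  have hle := (Subgroup.card_le_of_le hMle).trans hMcard
  have h1 := Subgroup.card_mul_index (commutator ↥(P : Subgroup G))
  rw [hi, ← Subgroup.card_mul_index Q, hidx] at h1
  have h3 : Nat.card ↥(commutator ↥(P : Subgroup G)) * p = Nat.card Q :=
    Nat.eq_of_mul_eq_mul_right hp.out.pos (by rw [← h1]; ring)
  set c := Nat.card ↥(commutator ↥(P : Subgroup G)) with hc'
  have hc : 0 < c := Nat.card_pos
  have h4 : a' * p * (b' * p) ≤ c * p := (Nat.mul_le_mul hA' hB').trans (h3 ▸ hABcard)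
  have h5 : c * (p * p) ≤ c * p := le_trans (Nat.mul_le_mul_right (p * p) hle) (by linarith)
  have h6 : p * p ≤ p := Nat.le_of_mul_le_mul_left h5 hc
  have := hp.out.two_le
  nlinarith

end H28.AbelTwo
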