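import Mathlib
import Cfsg.Agent.H28.AbelTwo.Cases

/-!
# A moved factor has a commutative Sylow subgroup
-/

set_option autoImplicit false
set_option linter.style.haveILetI false

namespace H28.AbelTwo

open Subgroup
open scoped commutatorElement

variable {G : Type*} [Group G] [Finite G] {p : ℕ} [hp : Fact p.Prime] {N : Subgroup G}

theorem BigMin.commute_of_moved (hN : BigMin N) {S : Subgroup G} (hS : MinIn N S) (P : Sylow p G)
    (hidx : (N.subgroupOf (P : Subgroup G)).index = p) {y : G} (hyP : y ∈ (P : Subgroup G))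
    (hy : y ∉ normalizer (S : Set G))
    (hi : (commutator ↥(P : Subgroup G)).index = p ^ 2) :
    ∀ a ∈ (P : Subgroup G) ⊓ S, ∀ b ∈ (P : Subgroup G) ⊓ S, a * b = b * a := by
  classical
  haveI := hN.normal
  set Q := N.subgroupOf (P : Subgroup G) with hQdef
  set A := (P : Subgroup G) ⊓ S with hA
  have hex : ∀ q : Q, ∃ a : A,
      ((a : G))⁻¹ * ((q : ↥(P : Subgroup G)) : G) ∈ centralizer (S : Set G) := by
    intro q
    obtain ⟨s, hs, t, ht, he⟩ := hN.exists_decomp_sylow hS P q.1.2 q.2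
    exact ⟨⟨s, hs⟩, by rw [he, inv_mul_cancel_left]; exact ht.2.2⟩
  choose π hπ using hex
  have huniq : ∀ (q : Q) (a : A),
      (a : G)⁻¹ * ((q : ↥(P : Subgroup G)) : G) ∈ centralizer (S : Set G) → π q = a := by
    intro q a ha
    have : (π q : G)⁻¹ * a ∈ S ⊓ centralizer (S : Set G) := by
      refine ⟨S.mul_mem (S.inv_mem (π q).2.2) a.2.2, ?_⟩
      have := mul_mem (hπ q) (inv_mem ha)
      rwa [mul_inv_rev, inv_inv, mul_assoc, mul_inv_cancel_left] at this
    rw [hN.inf_centralizer_self hS, mem_bot, inv_mul_eq_one] at this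
    exact Subtype.ext this
  let πh : Q →* A := MonoidHom.mk' π (fun q r => huniq _ _ (by
    have h1 := hπ q
    have h2 := hπ r
    have h3 : ((π r : G))⁻¹ * ((π q : G)⁻¹ * ((q : ↥(P : Subgroup G)) : G)) * (π r : G) =
        (π q : G)⁻¹ * ((q : ↥(P : Subgroup G)) : G) := by
      rw [mem_centralizer_iff] at h1
      rw [mul_assoc, ← h1 _ (π r).2.2, inv_mul_cancel_left]
    have e : ((π q * π r : A) : G)⁻¹ * (((q * r : Q) : ↥(P : Subgroup G)) : G) =
        ((π r : G))⁻¹ * ((π q : G)⁻¹ * ((q : ↥(P : Subgroup G)) : G)) * (π r : G) *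
          ((π r : G)⁻¹ * ((r : ↥(P : Subgroup G)) : G)) := by
      push_cast
      group
    rw [e, h3]
    exact mul_mem h1 h2))
  let φ : Q →* Abelianization A := Abelianization.of.comp πh
  let cj : ↥(P : Subgroup G) → (Q →* Q) := fun g => (MulAut.conjNormal (H := Q) g).toMonoidHom
  have hcj : ∀ (g : ↥(P : Subgroup G)) (q : Q),
      ((cj g q : Q) : ↥(P : Subgroup G)) = g * q * g⁻¹ := fun g q => rfl
  set y' : ↥(P : Subgroup G) := ⟨y, hyP⟩ with hy'
  let f : Q →* Abelianization A := ∏ i ∈ Finset.range p, φ.comp (cj (y' ^ i))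
  have hfapp : ∀ q, f q = ∏ i ∈ Finset.range p, φ (cj (y' ^ i) q) := fun q => by
    simp [f, MonoidHom.finsetProd_apply]
  have hinner : ∀ (u q : Q), φ (cj (u : ↥(P : Subgroup G)) q) = φ q := by
    intro u q
    have : cj (u : ↥(P : Subgroup G)) q = u * q * u⁻¹ := Subtype.ext (hcj _ _)
    rw [this, map_mul, map_mul, map_inv, mul_inv_cancel_comm]
  have hyQ : y' ∉ Q := fun h => hy (hS.norm h)
  have hyp : y' ^ p ∈ Q := by
    have := Subgroup.pow_index_mem Q y'
    rw [hidx] at this
    exact this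
  have hcjmul : ∀ (g h : ↥(P : Subgroup G)) (q : Q), cj (g * h) q = cj g (cj h q) := fun g h q => by
    apply Subtype.ext
    simp only [hcj]
    group
  have hfy : ∀ q, f (cj y' q) = f q := by
    intro q
    rw [hfapp, hfapp]
    let g : ℕ → Abelianization A := fun i => φ (cj (y' ^ i) q)
    have h1 : ∀ i, φ (cj (y' ^ i) (cj y' q)) = g (i + 1) := fun i => by
      rw [← hcjmul, ← pow_succ]
    simp only [h1]
    have hg : g p = g 0 := by
      show φ (cj (y' ^ p) q) = φ (cj (y' ^ 0) q)
      rw [hinner ⟨y' ^ p, hyp⟩ q]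
      refine congrArg φ (Subtype.ext ?_)
      rw [hcj, pow_zero, one_mul, inv_one, mul_one]
    have h2 := Finset.prod_range_succ' g p
    have h3 := Finset.prod_range_succ g p
    rw [hg] at h3
    exact mul_right_cancel (h2.symm.trans h3)
  let St : Subgroup ↥(P : Subgroup G) :=
    { carrier := {g | ∀ q, f (cj g q) = f q}
      one_mem' := fun q => congrArg f (Subtype.ext (by rw [hcj, one_mul, inv_one, mul_one]))
      mul_mem' := fun {g h} hg hh q => by rw [hcjmul, hg, hh]
      inv_mem' := fun {g} hg q => by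
        rw [← hg (cj g⁻¹ q), ← hcjmul, mul_inv_cancel]
        exact congrArg f (Subtype.ext (by rw [hcj, one_mul, inv_one, mul_one])) }
  have hSt : ∀ g, g ∈ St := by
    intro g
    have hsup : Q ⊔ zpowers y' = ⊤ :=
      sup_eq_top_of_index_prime hidx fun h => hyQ (h (mem_zpowers y'))
    have hle : Q ⊔ zpowers y' ≤ St := by
      refine sup_le ?_ (zpowers_le.2 hfy)
      intro u hu q
      have : cj u q = ⟨u, hu⟩ * q * ⟨u, hu⟩⁻¹ := Subtype.ext (hcj _ _)
      rw [this, map_mul, map_mul, map_inv, mul_inv_cancel_comm]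
    exact hle (hsup ▸ mem_top g)
  set M : Subgroup ↥(P : Subgroup G) := f.ker.map Q.subtype with hMdef
  have hMQ : M ≤ Q := map_subtype_le _
  haveI : M.Normal := ⟨fun m hm g => by
    obtain ⟨q, hq, rfl⟩ := hm
    refine ⟨cj g q, ?_, hcj g q⟩
    show f (cj g q) = 1
    rw [hSt g q]
    exact hq⟩
  have hMle : commutator ↥(P : Subgroup G) ≤ M := by
    refine commutator_le_of_central_index_prime (hidx.symm ▸ hp.out) hMQ ?_
    intro q hq x
    refine ⟨⟨q, hq⟩ * (cj x ⟨q, hq⟩)⁻¹, ?_, ?_⟩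
    · show f _ = 1
      rw [map_mul, map_inv, hSt x ⟨q, hq⟩, mul_inv_cancel]
    · simp only [map_mul, map_inv, coe_subtype, hcj, commutatorElement_def]
      group
  have hmoved : ∀ i, 0 < i → i < p → S.map (MulAut.conj (y ^ i)).toMonoidHom ≠ S := by
    intro i hi0 hip he
    have hnorm : y ^ i ∈ normalizer (S : Set G) :=
      mem_normalizer_fintype fun s hs => he.le ⟨s, hs, rfl⟩
    apply hy
    have hpi : Nat.Coprime i p := by
      rw [Nat.coprime_comm, hp.out.coprime_iff_not_dvd]
      exact fun hd => hi0.ne' (Nat.eq_zero_of_dvd_of_lt hd hip)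
    have hyp' : y ^ p ∈ normalizer (S : Set G) := by
      have h : ((y' ^ p : ↥(P : Subgroup G)) : G) ∈ N := hyp
      rw [SubgroupClass.coe_pow] at h
      exact hS.norm h
    obtain ⟨u, hu⟩ : ∃ u : ℤ × ℤ, (i : ℤ) * u.1 + (p : ℤ) * u.2 = 1 := by
      refine ⟨(Nat.gcdA i p, Nat.gcdB i p), ?_⟩
      rw [← Nat.gcd_eq_gcd_ab, hpi.gcd_eq_one, Nat.cast_one]
    have : y = (y ^ i) ^ u.1 * (y ^ p) ^ u.2 := by
      rw [← zpow_natCast y i, ← zpow_natCast y p, ← zpow_mul, ← zpow_mul, ← zpow_add, hu, zpow_one]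
    rw [this]
    exact mul_mem (zpow_mem hnorm _) (zpow_mem hyp' _)
  have hsurj : Function.Surjective f := by
    intro z
    obtain ⟨a, rfl⟩ := QuotientGroup.mk_surjective z
    refine ⟨⟨⟨(a : G), a.2.1⟩, hS.le a.2.2⟩, ?_⟩
    rw [hfapp, Finset.prod_eq_single 0]
    · show Abelianization.of (π _) = _
      rw [huniq _ a (by
        rw [hcj, pow_zero, one_mul, inv_one, mul_one]
        exact inv_mul_cancel (a : G) ▸ one_mem _)]
      rfl
    · intro i hi hi0
      show Abelianization.of (π _) = 1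
      rw [huniq _ 1 (by
        rw [OneMemClass.coe_one, inv_one, one_mul, hcj]
        push_cast
        rw [mem_centralizer_iff]
        intro s hs
        exact ((hS.map_conj hN.normal (y ^ i)).commute hS
          (hmoved i (Nat.pos_of_ne_zero hi0) (Finset.mem_range.1 hi)) _ ⟨a, a.2.2, rfl⟩ s hs).symm)]
      exact map_one _
    · intro h
      exact absurd (Finset.mem_range.2 hp.out.pos) h
  have hdvd : M.index ∣ p ^ 2 := hi ▸ index_dvd_of_le hMle
  have hMrel : M.index = (commutator A).index * p := by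
    rw [← relIndex_mul_index hMQ, hidx]
    congr 1
    have hMQ' : M.subgroupOf Q = f.ker := comap_map_eq_self_of_injective Q.subtype_injective _
    rw [relIndex, hMQ', index_ker, MonoidHom.range_eq_top.2 hsurj, card_top, index_eq_card]
    rfl
  have hle : (commutator A).index ≤ p := by
    have h1 := Nat.le_of_dvd (pow_pos hp.out.pos 2) hdvd
    rw [hMrel] at h1
    exact Nat.le_of_mul_le_mul_right (h1.trans_eq (sq p)) hp.out.pos
  haveI := isMulCommutative_of_index_le (P.isPGroup'.to_le (inf_le_left : A ≤ _)) hle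
  intro a ha b hb
  exact congrArg Subtype.val (mul_comm' (⟨a, ha⟩ : A) ⟨b, hb⟩)

end H28.AbelTwo
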