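import Mathlib
import Cfsg.Agent.H28.AbelTwo.Moved
import Cfsg.Agent.H5.TateCor
import Cfsg.Agent.H10.Basic

/-!
# A normal subgroup cutting out a commutative maximal subgroup of a Sylow subgroup
-/

set_option autoImplicit false
set_option linter.style.haveILetI false

namespace H28.AbelTwo

open Subgroup
open scoped commutatorElement

variable {G : Type*} [Group G] [Finite G] {p : ℕ} [hp : Fact p.Prime]

/-- A `p`-element of a finite group has a conjugate in a given Sylow subgroup. -/
theorem exists_conj_mem (P : Sylow p G) {H : Subgroup G} (hH : IsPGroup p H) :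
    ∃ g : G, ∀ x ∈ H, g * x * g⁻¹ ∈ (P : Subgroup G) := by
  obtain ⟨R, hR⟩ := hH.exists_le_sylow
  obtain ⟨g, hg⟩ := MulAction.exists_smul_eq G R P
  refine ⟨g, fun x hx => ?_⟩
  have h := congrArg (fun T : Sylow p G => (T : Subgroup G)) hg
  simp only [Sylow.coe_subgroup_smul] at h
  rw [← h]
  exact ⟨x, hR hx, rfl⟩

/-- A nontrivial normal subgroup meets a Sylow subgroup when `O_{p'}(G) = 1`. -/
theorem inf_sylow_ne_bot (P : Sylow p G) (hcore : Cfsg.pPrimeCore p G = ⊥) {L : Subgroup G}
    (hL : L.Normal) (hne : L ≠ ⊥) : (P : Subgroup G) ⊓ L ≠ ⊥ := by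
  intro h
  apply hne
  rw [eq_bot_iff, ← hcore]
  refine H10.le_pPrimeCore hL ?_
  rw [Nat.coprime_comm, hp.out.coprime_iff_not_dvd]
  intro hd
  obtain ⟨x, hx⟩ := exists_prime_orderOf_dvd_card' (G := L) p hd
  obtain ⟨g, hg⟩ := exists_conj_mem P (H := zpowers (x : G))
    (IsPGroup.of_card (n := 1) (by rw [Nat.card_zpowers, orderOf_coe, hx, pow_one]))
  have hxP : g * (x : G) * g⁻¹ ∈ (P : Subgroup G) ⊓ L :=
    ⟨hg _ (mem_zpowers _), hL.conj_mem _ x.2 g⟩
  rw [h, mem_bot, conj_eq_one_iff] at hxP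
  rw [← orderOf_coe, hxP, orderOf_one] at hx
  exact hp.out.one_lt.ne hx

/-- A minimal normal subgroup does not meet `P` inside the derived subgroup of `P`. -/
theorem not_le_commutator (P : Sylow p G) (hcore : Cfsg.pPrimeCore p G = ⊥)
    (hcore' : (⁅(P : Subgroup G), (P : Subgroup G)⁆).normalCore = ⊥) {N : Subgroup G} (hN : N.Normal)
    (hne : N ≠ ⊥) : ¬ N.subgroupOf (P : Subgroup G) ≤ commutator ↥(P : Subgroup G) := by
  haveI := hN
  intro hle
  have hmapP : (commutator ↥(P : Subgroup G)).map (P : Subgroup G).subtype =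
      ⁅(P : Subgroup G), (P : Subgroup G)⁆ := (P : Subgroup G).map_subtype_commutator
  have hNP : N ⊓ (P : Subgroup G) ≤ ⁅(P : Subgroup G), (P : Subgroup G)⁆ := by
    rintro x ⟨hxN, hxP⟩
    rw [← hmapP]
    exact ⟨⟨x, hxP⟩, hle hxN, rfl⟩
  have hfr : N ⊓ (P : Subgroup G) ≤ (frattini P).map (P : Subgroup G).subtype :=
    hNP.trans (hmapP ▸ map_mono (commutator_le_frattini P.isPGroup'))
  obtain ⟨R, K, hKn, hcompl⟩ := H5.hasNormalPComplement_of_le_frattini P N hfr
  have hKcard : (Nat.card K).Coprime p := by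
    rw [show Nat.card K = (R : Subgroup N).index from hcompl.index_eq_card.symm, Nat.coprime_comm,
      hp.out.coprime_iff_not_dvd]
    exact R.not_dvd_index
  have hKbot : K = ⊥ := by
    rw [← map_eq_bot_iff_of_injective _ N.subtype_injective, eq_bot_iff, ← hcore]
    exact (map_mono (H10.le_pPrimeCore hKn hKcard)).trans (H10.map_pPrimeCore_subtype_le hN)
  rw [hKbot] at hcompl
  have hRtop : (R : Subgroup N) = ⊤ := by simpa using hcompl.sup_eq_top
  have hNp : IsPGroup p N := fun x => by
    obtain ⟨k, hk⟩ := R.isPGroup' ⟨x, hRtop ▸ mem_top x⟩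
    exact ⟨k, congrArg Subtype.val hk⟩
  have hNP' : N ≤ (P : Subgroup G) := by
    obtain ⟨g, hg⟩ := exists_conj_mem P hNp
    intro x hx
    have := hg (g⁻¹ * x * g) (by simpa using hN.conj_mem x hx g⁻¹)
    simpa [mul_assoc] using this
  apply hne
  rw [eq_bot_iff, ← hcore']
  exact normal_le_normalCore.2 (inf_of_le_left hNP' ▸ hNP)

/-- A normal subgroup of a `p`-group with `p²`-derived quotient not inside the derived subgroup. -/
theorem eq_top_or_index {X : Type*} [Group X] [Finite X] (hX : IsPGroup p X)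
    (hi : (commutator X).index = p ^ 2) {Q : Subgroup X} [Q.Normal] (hQ : ¬ Q ≤ commutator X) :
    Q = ⊤ ∨ Q.index = p := by
  set U := Q ⊔ commutator X with hU
  have hrel := relIndex_mul_index (le_sup_right : commutator X ≤ U)
  rw [hi] at hrel
  obtain ⟨j, hj, hjU⟩ := (Nat.dvd_prime_pow hp.out).1 (Dvd.intro_left _ hrel)
  interval_cases j
  · left
    refine frattini_nongenerating (le_antisymm le_top ?_)
    rw [← index_eq_one.1 (hjU.trans (pow_zero p))]
    exact sup_le le_sup_left ((commutator_le_frattini hX).trans le_sup_right)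
  · right
    have hUQ : (commutator (X ⧸ Q)).index = p := by
      have hm : commutator (X ⧸ Q) = (commutator X).map (QuotientGroup.mk' Q) := by
        rw [_root_.commutator_def, _root_.commutator_def, map_commutator,
          map_top_of_surjective _ (QuotientGroup.mk'_surjective Q)]
      rw [hm, index_map, QuotientGroup.ker_mk', MonoidHom.range_eq_top.2
        (QuotientGroup.mk'_surjective Q), index_top, mul_one, sup_comm]
      exact hjU.trans (pow_one p)
    haveI := isMulCommutative_of_index_le (hX.to_quotient Q) hUQ.le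
    have hle : commutator X ≤ Q := by
      rw [_root_.commutator_def, commutator_le]
      intro a _ b _
      rw [← QuotientGroup.eq_one_iff]
      exact commutatorElement_eq_one_iff_mul_comm.2 (mul_comm' (a : _ ⧸ Q) (b : _ ⧸ Q))
    rw [sup_eq_left.2 hle, pow_one] at hjU
    exact hjU
  · exfalso
    rw [hjU] at hrel
    have h1 : (commutator X).relIndex U = 1 := by
      have := pow_pos hp.out.pos 2
      nlinarith
    exact hQ ((le_sup_left : Q ≤ U).trans (relIndex_eq_one.1 h1))

/-- **Key step.** A normal subgroup cutting out a commutative maximal subgroup. -/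
theorem exists_abelian_maximal (P : Sylow p G)
    (hi : (commutator ↥(P : Subgroup G)).index = p ^ 2)
    (hnab : ¬ IsMulCommutative ↥(P : Subgroup G)) (hcore : Cfsg.pPrimeCore p G = ⊥)
    (hcore' : (⁅(P : Subgroup G), (P : Subgroup G)⁆).normalCore = ⊥)
    (hnas : ¬ ∃ S : Subgroup G, S.Normal ∧ IsSimpleGroup S ∧ ¬ IsMulCommutative S ∧
      Subgroup.centralizer (S : Set G) = ⊥) :
    ∃ N : Subgroup G, N.Normal ∧ (N.subgroupOf (P : Subgroup G)).index = p ∧
      IsMulCommutative (N.subgroupOf (P : Subgroup G)) := by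
  classical
  have htop : (⊤ : Subgroup G) ≠ ⊥ := by
    intro h
    apply hnab
    refine ⟨⟨fun a b => ?_⟩⟩
    have : ∀ z : ↥(P : Subgroup G), z = 1 := fun z =>
      Subtype.ext (mem_bot.1 (h.le (mem_top (z : G))))
    rw [this a, this b]
  obtain ⟨N, ⟨hNn, hNne⟩, hNmin'⟩ :=
    (Set.toFinite {L : Subgroup G | L.Normal ∧ L ≠ ⊥}).exists_minimal ⟨⊤, inferInstance, htop⟩
  haveI := hNn
  have hNmin : ∀ L : Subgroup G, L.Normal → L ≤ N → L = ⊥ ∨ L = N := fun L hL hle => by
    by_cases hb : L = ⊥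
    · exact Or.inl hb
    · exact Or.inr (le_antisymm hle (hNmin' ⟨hL, hb⟩ hle))
  have hQcases := eq_top_or_index P.isPGroup' hi (not_le_commutator P hcore hcore' hNn hNne)
  refine ⟨N, hNn, ?_⟩
  by_cases hcomm : ∀ a ∈ N, ∀ b ∈ N, a * b = b * a
  · haveI hQc : IsMulCommutative (N.subgroupOf (P : Subgroup G)) :=
      ⟨⟨fun a b => Subtype.ext (Subtype.ext (hcomm _ a.2 _ b.2))⟩⟩
    refine ⟨hQcases.resolve_left fun h => hnab ⟨⟨fun a b => ?_⟩⟩, hQc⟩
    exact congrArg Subtype.val (mul_comm' (⟨a, h ▸ mem_top a⟩ : N.subgroupOf (P : Subgroup G))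
      ⟨b, h ▸ mem_top b⟩)
  have hB : BigMin N := ⟨hNn, hNne, hNmin, hcomm⟩
  have hQne := inf_sylow_ne_bot P hcore hNn hNne
  obtain ⟨S, hS⟩ := exists_minIn hNne
  by_cases hSN : S = N
  · exfalso
    subst hSN
    haveI : Nontrivial S := (nontrivial_iff_ne_bot S).2 hNne
    have hsimple : IsSimpleGroup S := by
      refine ⟨fun L hL => ?_⟩
      have hLS : L.map S.subtype ≤ S := map_subtype_le L
      have hn : S ≤ normalizer ((L.map S.subtype : Subgroup G) : Set G) := by
        apply (normal_subgroupOf_iff_le_normalizer hLS).1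
        rw [show (L.map S.subtype).subgroupOf S = L from
          comap_map_eq_self_of_injective S.subtype_injective L]
        exact hL
      rcases hS.min _ hLS hn with h | h
      · exact Or.inl ((map_eq_bot_iff_of_injective _ S.subtype_injective).1 h)
      · right
        apply Subgroup.map_injective S.subtype_injective
        rw [h, ← MonoidHom.range_eq_map, range_subtype]
    have hC : centralizer (S : Set G) ≠ ⊥ := fun h => hnas ⟨S, hNn, hsimple, fun hc =>
      hcomm fun a ha b hb => congrArg Subtype.val (hc.is_comm.comm (⟨a, ha⟩ : S) ⟨b, hb⟩), h⟩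
    haveI : (centralizer (S : Set G)).Normal := inferInstance
    have hBne := inf_sylow_ne_bot P hcore inferInstance hC
    set B := (centralizer (S : Set G)).subgroupOf (P : Subgroup G) with hBdef
    have hBX : B ≠ ⊥ := by
      rwa [hBdef, Ne, subgroupOf_eq_bot, disjoint_iff, inf_comm]
    have hQB : ∀ z : ↥(P : Subgroup G), z ∈ S.subgroupOf (P : Subgroup G) → z ∈ B → z = 1 := by
      intro z h1 h2
      have : (z : G) ∈ S ⊓ centralizer (S : Set G) := ⟨h1, h2⟩
      rw [hB.inf_centralizer, mem_bot] at this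
      exact Subtype.ext this
    have hnot : ¬ B ≤ S.subgroupOf (P : Subgroup G) := fun h => hBX (eq_bot_iff.2 fun z hz =>
      mem_bot.2 (hQB z (h hz) hz))
    rcases hQcases with h | h
    · exact hnot (h.symm ▸ le_top)
    · apply hnab
      refine isMulCommutative_of_split P.isPGroup' hi (A := S.subgroupOf (P : Subgroup G))
        (B := B) ?_ ?_ (sup_eq_top_of_index_prime h hnot) ?_ hBX
      · intro a ha b hb
        exact Subtype.ext (mem_centralizer_iff.1 hb _ ha)
      · exact eq_bot_iff.2 fun z hz => mem_bot.2 (hQB z hz.1 hz.2)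
      · rwa [Ne, subgroupOf_eq_bot, disjoint_iff, inf_comm]
  have hidx : (N.subgroupOf (P : Subgroup G)).index = p := by
    refine hQcases.resolve_left fun h => hB.false_of_split hS P hQne hSN ?_ hi hnab
    rwa [subgroupOf_eq_top] at h
  have hall : ∀ S' : Subgroup G, MinIn N S' → S' ≠ N →
      ∀ a ∈ (P : Subgroup G) ⊓ S', ∀ b ∈ (P : Subgroup G) ⊓ S', a * b = b * a := by
    intro S' hS' hne'
    obtain ⟨y, hyP, hy⟩ := SetLike.not_le_iff_exists.1
      (fun h => hB.false_of_invariant hS' P hQne hne' hidx h hi)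
    exact hB.commute_of_moved hS' P hidx hyP hy hi
  refine ⟨hidx, ⟨⟨?_⟩⟩⟩
  rintro ⟨⟨a, haP⟩, haN⟩ ⟨⟨b, hbP⟩, hbN⟩
  apply Subtype.ext
  apply Subtype.ext
  show a * b = b * a
  replace haN : a ∈ N := haN
  replace hbN : b ∈ N := hbN
  rw [← commutatorElement_eq_one_iff_mul_comm, ← mem_bot, ← hB.inf_centralizer]
  refine ⟨N.mul_mem (N.mul_mem (N.mul_mem haN hbN) (N.inv_mem haN)) (N.inv_mem hbN), ?_⟩
  have hle : N ≤ centralizer ({⁅a, b⁆} : Set G) := by
    conv_lhs => rw [← hB.iSup_conj hS]
    refine iSup_le fun g => ?_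
    have hS' := hS.map_conj hNn g
    have hne' : S.map (MulAut.conj g).toMonoidHom ≠ N := by
      intro h
      apply hSN
      exact Subgroup.eq_of_le_of_card_ge hS.le (by
        rw [← Subgroup.card_map_of_injective (K := S) (f := (MulAut.conj g).toMonoidHom)
          (MulAut.conj g).injective, h])
    obtain ⟨s, hs, t, ht, rfl⟩ := hB.exists_decomp_sylow hS' P haP haN
    obtain ⟨s', hs', t', ht', rfl⟩ := hB.exists_decomp_sylow hS' P hbP hbN
    intro z hz
    rw [mem_centralizer_singleton_iff]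
    have hcS : ∀ w ∈ centralizer ((S.map (MulAut.conj g).toMonoidHom : Subgroup G) : Set G),
        ∀ v ∈ S.map (MulAut.conj g).toMonoidHom, Commute v w := fun w hw v hv =>
      mem_centralizer_iff.1 hw v hv
    have h1 : Commute s t := hcS t ht.2.2 s hs.2
    have h2 : Commute s' t := hcS t ht.2.2 s' hs'.2
    have h3 : Commute s t' := hcS t' ht'.2.2 s hs.2
    have h4 : Commute s' t' := hcS t' ht'.2.2 s' hs'.2
    have h5 : Commute s s' := hall _ hS' hne' s hs s' hs'
    have hA : Commute s (t * (s' * t') * t⁻¹) :=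
      (h1.mul_right (h5.mul_right h3)).mul_right h1.inv_right
    have hB2 : Commute s' (t * t' * t⁻¹ * t'⁻¹) :=
      ((h2.mul_right h4).mul_right h2.inv_right).mul_right h4.inv_right
    have e : ⁅s * t, s' * t'⁆ = ⁅t, t'⁆ := by
      simp only [commutatorElement_def]
      calc s * t * (s' * t') * (s * t)⁻¹ * (s' * t')⁻¹
          = s * (t * (s' * t') * t⁻¹) * s⁻¹ * (t'⁻¹ * s'⁻¹) := by group
        _ = t * (s' * t') * t⁻¹ * (t'⁻¹ * s'⁻¹) := by rw [hA.eq, mul_inv_cancel_right]
        _ = t * s' * (t' * t⁻¹ * t'⁻¹) * s'⁻¹ := by group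
        _ = s' * (t * t' * t⁻¹ * t'⁻¹) * s'⁻¹ := by rw [← h2.eq]; group
        _ = t * t' * t⁻¹ * t'⁻¹ := by rw [hB2.eq, mul_inv_cancel_right]
    rw [e]
    refine (hcS _ ?_ z hz).eq
    exact mul_mem (mul_mem (mul_mem ht.2.2 ht'.2.2) (inv_mem ht.2.2)) (inv_mem ht'.2.2)
  show ⁅a, b⁆ ∈ centralizer (N : Set G)
  rw [mem_centralizer_iff]
  intro z hz
  exact mem_centralizer_singleton_iff.1 (hle hz)

end H28.AbelTwo
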